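import Mathlib
import Groth.Agent.S2680

set_option autoImplicit false
set_option linter.style.haveILetI false

/-!
# Jets and regularity at rational points
-/

universe u

open Polynomial

namespace Groth.Agent.JetLib

variable {k : Type u} [Field k] {A : Type u} [CommRing A] [Algebra k A]

theorem exists_generators [IsNoetherianRing A] (m : Ideal A) (c : A →ₐ[k] k) (hc : ∀ a, c a = 0 ↔ a ∈ m) :
    ∃ (n : ℕ) (x : Fin n → A), (∀ i, x i ∈ m) ∧ m ≤ Ideal.span (Set.range x) ⊔ m ^ 2 ∧
      ∀ v : Fin n → k, ∃ ℓ : A →ₗ[k] k, ℓ 1 = 0 ∧ (∀ a ∈ m ^ 2, ℓ a = 0) ∧ ∀ i, ℓ (x i) = v i := by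
  classical
  have hex : ∃ n, ∃ x : Fin n → A, (∀ i, x i ∈ m) ∧ m ≤ Ideal.span (Set.range x) ⊔ m ^ 2 := by
    obtain ⟨n, x, hx⟩ := Submodule.fg_iff_exists_fin_generating_family.mp (IsNoetherian.noetherian m)
    exact ⟨n, x, fun i => hx.le (Submodule.subset_span ⟨i, rfl⟩), hx.ge.trans le_sup_left⟩
  obtain ⟨x, hxm, hx⟩ := Nat.find_spec hex
  refine ⟨_, x, hxm, hx, fun v => ?_⟩
  let W := (m ^ 2).restrictScalars k
  let w : Fin (Nat.find hex + 1) → A ⧸ W := Fin.cons (W.mkQ 1) (fun i => W.mkQ (x i))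
  have hw : LinearIndependent k w := by
    rw [Fintype.linearIndependent_iff]
    intro g hg
    have hg' : g 0 • (1 : A) + ∑ i, g i.succ • x i ∈ m ^ 2 := by
      rw [Fin.sum_univ_succ] at hg
      simp only [w, Fin.cons_zero, Fin.cons_succ] at hg
      have h' : W.mkQ (g 0 • (1 : A) + ∑ i, g i.succ • x i) = 0 := by
        rw [map_add, map_sum, map_smul]
        simp only [map_smul]
        exact hg
      rw [Submodule.mkQ_apply, Submodule.Quotient.mk_eq_zero] at h'
      exact h'
    have hg0 : g 0 = 0 := by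
      have := (hc _).mpr (Ideal.pow_le_self two_ne_zero hg')
      rwa [map_add, map_sum, Finset.sum_eq_zero (fun i _ => by rw [map_smul, (hc _).mpr (hxm i), smul_zero]),
        add_zero, map_smul, map_one, smul_eq_mul, mul_one] at this
    rw [hg0, zero_smul, zero_add] at hg'
    have hsucc : ∀ i : Fin (Nat.find hex), g i.succ = 0 := by
      intro i
      by_contra hi
      have hn : Nat.find hex ≠ 0 := fun h => (h ▸ i : Fin 0).elim0
      obtain ⟨n, hn'⟩ := Nat.exists_eq_succ_of_ne_zero hn
      let i' : Fin (n + 1) := Fin.cast hn' i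
      refine Nat.find_min hex (m := n) (by omega) ?_
      refine ⟨fun j => x (Fin.cast hn'.symm (i'.succAbove j)), fun j => hxm _, ?_⟩
      let S := Ideal.span (Set.range fun j => x (Fin.cast hn'.symm (i'.succAbove j))) ⊔ m ^ 2
      refine hx.trans (sup_le (Ideal.span_le.mpr ?_) le_sup_right)
      have hne : ∀ j, j ≠ i → x j ∈ S := by
        intro j hj
        obtain ⟨j', hj'⟩ := Fin.exists_succAbove_eq (x := Fin.cast hn' j) (y := i')
          (fun h => hj (Fin.ext (by simpa [i', Fin.ext_iff] using h)))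
        refine Ideal.mem_sup_left (Ideal.subset_span ⟨j', ?_⟩)
        show x (Fin.cast hn'.symm (i'.succAbove j')) = x j
        rw [hj']
        rfl
      rintro _ ⟨j, rfl⟩
      by_cases hj : j = i
      · subst hj
        rw [← Finset.add_sum_erase _ _ (Finset.mem_univ j)] at hg'
        have hrest : ∑ l ∈ Finset.univ.erase j, g l.succ • x l ∈ S := by
          refine Ideal.sum_mem _ fun l hl => ?_
          rw [Algebra.smul_def]
          exact Ideal.mul_mem_left _ _ (hne l (Finset.ne_of_mem_erase hl))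
        have h1 : g j.succ • x j ∈ S := by
          have := sub_mem (Ideal.mem_sup_right hg' : _ ∈ S) hrest
          rwa [add_sub_cancel_right] at this
        have h2 : x j = algebraMap k A (g j.succ)⁻¹ * (g j.succ • x j) := by
          rw [Algebra.smul_def, ← mul_assoc, ← map_mul, inv_mul_cancel₀ hi, map_one, one_mul]
        rw [SetLike.mem_coe, h2]
        exact Ideal.mul_mem_left _ _ h1
      · exact hne j hj
    intro i
    exact Fin.cases hg0 hsucc i
  obtain ⟨ℓ, hℓ⟩ := LinearMap.exists_extend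
    ((Finsupp.linearCombination k (Fin.cons 0 v : Fin (Nat.find hex + 1) → k)).comp hw.repr)
  have hℓw : ∀ i, ℓ (w i) = (Fin.cons 0 v : Fin (Nat.find hex + 1) → k) i := by
    intro i
    have := LinearMap.congr_fun hℓ ⟨w i, Submodule.subset_span ⟨i, rfl⟩⟩
    rw [LinearMap.comp_apply, LinearMap.comp_apply, hw.repr_eq_single i _ rfl,
      Finsupp.linearCombination_single, one_smul] at this
    exact this
  refine ⟨ℓ.comp W.mkQ, ?_, fun a ha => ?_, fun i => ?_⟩
  · simpa [w] using hℓw 0
  · show ℓ (W.mkQ a) = 0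
    rw [Submodule.mkQ_apply, (Submodule.Quotient.mk_eq_zero W).mpr ha, map_zero]
  · simpa [w] using hℓw i.succ

theorem exists_tangent_map {m : Ideal A} (c : A →ₐ[k] k) (ℓ : A →ₗ[k] k) (hℓ1 : ℓ 1 = 0)
    (hℓ2 : ∀ a ∈ m ^ 2, ℓ a = 0) (hc : ∀ a, c a = 0 → a ∈ m) :
    ∃ φ : A →ₐ[k] k[X] ⧸ Ideal.span {(X : k[X]) ^ (0 + 2)},
      ∀ a, φ a = Ideal.Quotient.mk _ (C (c a) + C (ℓ a) * X) := by
  let f : A →ₗ[k] k[X] ⧸ Ideal.span {(X : k[X]) ^ (0 + 2)} :=
    { toFun := fun a => Ideal.Quotient.mk _ (C (c a) + C (ℓ a) * X)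
      map_add' := fun a b => by
        rw [← map_add (Ideal.Quotient.mk _), map_add c, map_add ℓ, C_add, C_add]; congr 1; ring
      map_smul' := fun r a => by
        rw [RingHom.id_apply, ← Ideal.Quotient.mkₐ_eq_mk k, ← map_smul, map_smul c, map_smul ℓ,
          smul_add, smul_eq_mul, smul_eq_mul, C_mul, C_mul, Polynomial.smul_eq_C_mul,
          Polynomial.smul_eq_C_mul]
        congr 1; ring }
  refine ⟨AlgHom.ofLinearMap f ?_ (fun a b => ?_), fun a => rfl⟩
  · show Ideal.Quotient.mk _ (C (c 1) + C (ℓ 1) * X) = 1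
    rw [map_one c, hℓ1, map_zero, zero_mul, add_zero, map_one, map_one]
  · show Ideal.Quotient.mk _ _ = Ideal.Quotient.mk _ _ * Ideal.Quotient.mk _ _
    rw [← map_mul, Ideal.Quotient.eq]
    have hab : ℓ (a * b) = c a * ℓ b + c b * ℓ a := by
      have hA : a - algebraMap k A (c a) ∈ m := hc _ (by rw [map_sub, AlgHom.commutes]; exact sub_self _)
      have hB : b - algebraMap k A (c b) ∈ m := hc _ (by rw [map_sub, AlgHom.commutes]; exact sub_self _)
      have h0 := hℓ2 _ (by rw [pow_two]; exact Ideal.mul_mem_mul hA hB)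
      have he : (a - algebraMap k A (c a)) * (b - algebraMap k A (c b)) =
          a * b - c a • b - c b • a + (c a * c b) • (1 : A) := by
        simp only [Algebra.smul_def, map_mul]; ring
      rw [he, map_add, map_sub, map_sub, map_smul, map_smul, map_smul, hℓ1, smul_eq_mul, smul_eq_mul,
        smul_zero, add_zero, sub_sub, sub_eq_zero] at h0
      exact h0
    refine Ideal.mem_span_singleton'.mpr ⟨-(C (ℓ a) * C (ℓ b)), ?_⟩
    rw [hab, map_mul, C_add, C_mul, C_mul, C_mul]
    ring

theorem exists_lift_mul_X {l : ℕ} (hl : 2 ≤ l) (y : k[X] ⧸ Ideal.span {(X : k[X]) ^ l}) (v : k)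
    (h : Ideal.Quotient.factor (Ideal.span_singleton_le_span_singleton.mpr (pow_dvd_pow (X : k[X]) hl)) y =
      Ideal.Quotient.mk _ (C v * X)) :
    ∃ r : k[X], y = Ideal.Quotient.mk _ (X * (C v + X * r)) := by
  obtain ⟨p, rfl⟩ := Ideal.Quotient.mk_surjective y
  rw [Ideal.Quotient.factor_mk, Ideal.Quotient.eq, Ideal.mem_span_singleton'] at h
  obtain ⟨r, hr⟩ := h
  exact ⟨r, congrArg _ (by linear_combination -hr)⟩

theorem aeval_mul_of_isHomogeneous {S : Type u} [CommRing S] [Algebra k S] {n d : ℕ}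
    (P : MvPolynomial (Fin n) k) (hP : P.IsHomogeneous d) (t : S) (y : Fin n → S) :
    MvPolynomial.aeval (fun i => t * y i) P = t ^ d * MvPolynomial.aeval y P := by
  rw [MvPolynomial.aeval_def, MvPolynomial.aeval_def, MvPolynomial.eval₂_eq, MvPolynomial.eval₂_eq,
    Finset.mul_sum]
  refine Finset.sum_congr rfl fun e he => ?_
  have hd : ∑ i ∈ e.support, e i = d := by
    simpa [Finsupp.weight_apply, Finsupp.sum] using hP (MvPolynomial.mem_support_iff.mp he)
  simp only [mul_pow]
  rw [Finset.prod_mul_distrib, Finset.prod_pow_eq_pow_sum, hd]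
  ring

theorem eval_eq_zero_of_arc (m : Ideal A) (c : A →ₐ[k] k) (hc : ∀ a, c a = 0 ↔ a ∈ m) {d n : ℕ}
    (φ : A →ₐ[k] k[X] ⧸ Ideal.span {(X : k[X]) ^ (d + 2)})
    (hφc : ∀ a, Ideal.Quotient.factor (Ideal.span_singleton_le_span_singleton.mpr
      (pow_dvd_pow (X : k[X]) (Nat.le_add_left 1 (d + 1)))) (φ a) = Ideal.Quotient.mk _ (C (c a)))
    (x : Fin n → A) (v : Fin n → k)
    (hφv : ∀ i, Ideal.Quotient.factor (Ideal.span_singleton_le_span_singleton.mpr
      (pow_dvd_pow (X : k[X]) (Nat.le_add_left 2 d))) (φ (x i)) = Ideal.Quotient.mk _ (C (v i) * X))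
    (P : MvPolynomial (Fin n) k) (s : A) (hP : P.IsHomogeneous d) (hs : s ∉ m)
    (hmem : MvPolynomial.aeval x P * s ∈ m ^ (d + 1)) : MvPolynomial.eval v P = 0 := by
  classical
  choose r hr using fun i => exists_lift_mul_X (Nat.le_add_left 2 d) (φ (x i)) (v i) (hφv i)
  have hrep : ∀ a, ∃ p : k[X], φ a = Ideal.Quotient.mk _ p ∧ p.coeff 0 = c a := by
    intro a
    obtain ⟨p, hp⟩ := Ideal.Quotient.mk_surjective (φ a)
    refine ⟨p, hp.symm, ?_⟩
    have h := hφc a
    rw [← hp, Ideal.Quotient.factor_mk, Ideal.Quotient.eq, Ideal.mem_span_singleton, pow_one,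
      Polynomial.X_dvd_iff, coeff_sub, coeff_C_zero, sub_eq_zero] at h
    exact h
  obtain ⟨S, hS, hS0⟩ := hrep s
  let y : Fin n → k[X] := fun i => C (v i) + X * r i
  have hPx : φ (MvPolynomial.aeval x P) = Ideal.Quotient.mk _ (X ^ d * MvPolynomial.aeval y P) := by
    rw [← aeval_mul_of_isHomogeneous P hP, ← AlgHom.comp_apply, MvPolynomial.comp_aeval,
      ← Ideal.Quotient.mkₐ_eq_mk k, ← AlgHom.comp_apply, MvPolynomial.comp_aeval]
    exact congrArg (fun f => MvPolynomial.aeval f P) (funext fun i => hr i)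
  have hker : m ^ (d + 1) ≤ ((Ideal.span {(X : k[X]) ^ (d + 1)}).map
      (Ideal.Quotient.mk (Ideal.span {(X : k[X]) ^ (d + 2)}))).comap φ := by
    refine (Ideal.pow_right_mono (I := m)
      (J := ((Ideal.span {(X : k[X])}).map (Ideal.Quotient.mk _)).comap φ) (fun a ha => ?_) (d + 1)).trans
      ((Ideal.le_comap_pow _ (d + 1)).trans (Ideal.comap_mono ?_))
    · obtain ⟨p, hp, hp0⟩ := hrep a
      rw [Ideal.mem_comap, hp]
      refine Ideal.mem_map_of_mem _ (Ideal.mem_span_singleton.mpr (Polynomial.X_dvd_iff.mpr ?_))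
      rw [hp0, (hc a).mpr ha]
    · rw [← Ideal.map_pow, Ideal.span_singleton_pow]
  have h1 := hker hmem
  rw [Ideal.mem_comap, map_mul, hPx, hS, ← map_mul, ← Ideal.mem_comap,
    Ideal.comap_map_of_surjective _ Ideal.Quotient.mk_surjective, ← RingHom.ker_eq_comap_bot, Ideal.mk_ker,
    sup_eq_left.mpr (Ideal.span_singleton_le_span_singleton.mpr (pow_dvd_pow _ (Nat.le_succ _))),
    Ideal.mem_span_singleton, Polynomial.X_pow_dvd_iff] at h1
  have h2 := h1 d (Nat.lt_succ_self d)
  rw [mul_assoc, Polynomial.coeff_X_pow_mul', if_pos le_rfl, Nat.sub_self, Polynomial.mul_coeff_zero,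
    hS0] at h2
  have h3 : (MvPolynomial.aeval y P).coeff 0 = MvPolynomial.eval v P := by
    rw [Polynomial.coeff_zero_eq_eval_zero, ← Polynomial.coe_aeval_eq_eval, ← AlgHom.comp_apply,
      MvPolynomial.comp_aeval]
    rw [← MvPolynomial.aeval_eq_eval]
    exact congrArg (fun f => MvPolynomial.aeval f P) (funext fun i => by simp [y])
  rw [← h3]
  exact (mul_eq_zero.mp h2).resolve_right (fun h => hs ((hc s).mp h))

theorem injective_aeval (m : Ideal A) [m.IsPrime] {n : ℕ} (x : Fin n → A) (hxm : ∀ i, x i ∈ m)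
    (hform : ∀ (d : ℕ) (P : MvPolynomial (Fin n) k) (s : A), P.IsHomogeneous d → s ∉ m →
      MvPolynomial.aeval x P * s ∈ m ^ (d + 1) → P = 0) :
    Function.Injective ((algebraMap A (Localization.AtPrime m)).comp
      (MvPolynomial.aeval x : MvPolynomial (Fin n) k →ₐ[k] A).toRingHom) := by
  classical
  rw [injective_iff_map_eq_zero]
  intro P hP
  obtain ⟨⟨s, hs⟩, hs0⟩ := (IsLocalization.map_eq_zero_iff m.primeCompl (Localization.AtPrime m) _).mp hP
  by_contra hP0
  have hex : ∃ d, MvPolynomial.homogeneousComponent d P ≠ 0 := by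
    by_contra h
    push Not at h
    exact hP0 (by rw [← MvPolynomial.sum_homogeneousComponent P, Finset.sum_eq_zero (fun i _ => h i)])
  let d := Nat.find hex
  refine Nat.find_spec hex (hform d _ s (MvPolynomial.homogeneousComponent_isHomogeneous d P) hs ?_)
  have hmem : ∀ (e : ℕ) (Q : MvPolynomial (Fin n) k), Q.IsHomogeneous e → MvPolynomial.aeval x Q ∈ m ^ e := by
    intro e Q hQ
    rw [MvPolynomial.aeval_def, MvPolynomial.eval₂_eq]
    refine Ideal.sum_mem _ fun q hq => Ideal.mul_mem_left _ _ ?_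
    have hd : ∑ i ∈ q.support, q i = e := by
      simpa [Finsupp.weight_apply, Finsupp.sum] using hQ (MvPolynomial.mem_support_iff.mp hq)
    rw [← hd, ← Finset.prod_pow_eq_pow_sum]
    exact Ideal.prod_mem_prod fun i _ => Ideal.pow_mem_pow (hxm i) _
  have hs0' : MvPolynomial.aeval x P * s = 0 := by
    rw [mul_comm]; exact hs0
  let T := (Finset.range (P.totalDegree + 1)).erase d
  have hsum : MvPolynomial.homogeneousComponent d P + ∑ i ∈ T, MvPolynomial.homogeneousComponent i P = P := by
    have hdT : d ∈ Finset.range (P.totalDegree + 1) := by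
      rw [Finset.mem_range]
      by_contra hlt
      exact Nat.find_spec hex (MvPolynomial.homogeneousComponent_eq_zero _ _ (by omega))
    rw [Finset.add_sum_erase _ (fun i => MvPolynomial.homogeneousComponent i P) hdT]
    exact MvPolynomial.sum_homogeneousComponent P
  have h2 : MvPolynomial.aeval x (MvPolynomial.homogeneousComponent d P) * s =
      -(MvPolynomial.aeval x (∑ i ∈ T, MvPolynomial.homogeneousComponent i P) * s) := by
    rw [eq_neg_iff_add_eq_zero, ← add_mul, ← map_add, hsum, hs0']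
  rw [h2]
  refine neg_mem (Ideal.mul_mem_right _ _ ?_)
  rw [map_sum]
  refine Ideal.sum_mem _ fun i hi => ?_
  rcases lt_or_gt_of_ne (Finset.ne_of_mem_erase hi) with h | h
  · rw [not_not.mp (Nat.find_min hex h), map_zero]
    exact zero_mem _
  · exact Ideal.pow_le_pow_right h (hmem i _ (MvPolynomial.homogeneousComponent_isHomogeneous i P))

theorem isRegularLocalRing_of_injective [Algebra.FiniteType k A] (m : Ideal A) [m.IsMaximal] {n : ℕ}
    (x : Fin n → A) (hxm : ∀ i, x i ∈ m) (hxgen : m ≤ Ideal.span (Set.range x) ⊔ m ^ 2)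
    (hinj : Function.Injective ((algebraMap A (Localization.AtPrime m)).comp
      (MvPolynomial.aeval x : MvPolynomial (Fin n) k →ₐ[k] A).toRingHom)) :
    IsRegularLocalRing (Localization.AtPrime m) := by
  classical
  haveI : IsNoetherianRing A := Algebra.FiniteType.isNoetherianRing k A
  let L := Localization.AtPrime m
  haveI : IsNoetherianRing L := IsLocalization.isNoetherianRing m.primeCompl L inferInstance
  let f : MvPolynomial (Fin n) k →+* L := (algebraMap A L).comp
    (MvPolynomial.aeval x : MvPolynomial (Fin n) k →ₐ[k] A).toRingHom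
  have hfin : (minimalPrimes L).Finite := minimalPrimes.finite_of_isNoetherianRing L
  obtain ⟨q, hq, hqf⟩ : ∃ q ∈ hfin.toFinset, q.comap f ≤ ⊥ := by
    refine (Ideal.IsPrime.inf_le' (P := (⊥ : Ideal (MvPolynomial (Fin n) k))) Ideal.isPrime_bot).mp ?_
    intro P hP
    rw [Submodule.mem_finsetInf] at hP
    have hnil : f P ∈ nilradical L := by
      rw [nilradical_eq_sInf, Submodule.mem_sInf]
      intro Q hQ
      haveI : Ideal.IsPrime Q := hQ
      obtain ⟨p, hp, hle⟩ := Ideal.exists_minimalPrimes_le (I := (⊥ : Ideal L)) (J := Q) bot_le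
      exact hle (hP p (hfin.mem_toFinset.mpr hp))
    obtain ⟨N, hN⟩ := mem_nilradical.mp hnil
    rw [← map_pow] at hN
    exact (pow_eq_zero_iff'.mp (hinj (hN.trans (map_zero f).symm))).1
  haveI : q.IsPrime := (hfin.mem_toFinset.mp hq).1.1
  let q0 : Ideal A := q.comap (algebraMap A L)
  haveI : q0.IsPrime := Ideal.IsPrime.comap _
  have hq0m : q0 ≤ m := fun a ha => (IsLocalization.AtPrime.to_map_mem_maximal_iff L m a).mp
    (IsLocalRing.le_maximalIdeal ‹q.IsPrime›.ne_top ha)
  let S := A ⧸ q0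
  haveI hM : (m.map (Ideal.Quotient.mk q0)).IsMaximal := by
    refine (Ideal.map_eq_top_or_isMaximal_of_surjective _ Ideal.Quotient.mk_surjective ‹m.IsMaximal›).resolve_left
      fun h => ?_
    have := congrArg (Ideal.comap (Ideal.Quotient.mk q0)) h
    rw [Ideal.comap_map_of_surjective _ Ideal.Quotient.mk_surjective, ← RingHom.ker_eq_comap_bot,
      Ideal.mk_ker, sup_eq_left.mpr hq0m, Ideal.comap_top] at this
    exact ‹m.IsMaximal›.ne_top this
  obtain ⟨N, hN1, -, hN3⟩ := Groth.Agent.S2680.result k S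
  have hnN : (n : Cardinal) ≤ (N : Cardinal) := by
    rw [← hN1]
    have hai : AlgebraicIndependent k (fun i => algebraMap S (FractionRing S) (Ideal.Quotient.mk q0 (x i))) := by
      rw [algebraicIndependent_iff_injective_aeval]
      have he : (MvPolynomial.aeval fun i => algebraMap S (FractionRing S) (Ideal.Quotient.mk q0 (x i))) =
          ((IsScalarTower.toAlgHom k S (FractionRing S)).comp (Ideal.Quotient.mkₐ k q0)).comp
            (MvPolynomial.aeval x) := by
        rw [MvPolynomial.comp_aeval]; rfl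
      rw [he, AlgHom.coe_comp, AlgHom.coe_comp, Function.comp_assoc]
      refine (IsFractionRing.injective S (FractionRing S)).comp ?_
      intro P Q hPQ
      have : P - Q ∈ q.comap f := by
        rw [Ideal.mem_comap]
        show MvPolynomial.aeval x (P - Q) ∈ q0
        rw [map_sub, ← Ideal.Quotient.eq]
        exact hPQ
      exact sub_eq_zero.mp ((Submodule.mem_bot _).mp (hqf this))
    simpa using hai.lift_cardinalMk_le_trdeg
  haveI : IsLocalRing (Localization.AtPrime (m.map (Ideal.Quotient.mk q0))) := inferInstance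
  have hcomap : m = (m.map (Ideal.Quotient.mk q0)).comap (Ideal.Quotient.mk q0) := by
    rw [Ideal.comap_map_of_surjective _ Ideal.Quotient.mk_surjective, ← RingHom.ker_eq_comap_bot,
      Ideal.mk_ker, sup_eq_left.mpr hq0m]
  let φ := Localization.localRingHom m (m.map (Ideal.Quotient.mk q0)) (Ideal.Quotient.mk q0) hcomap
  have hφ : Function.Surjective φ := by
    intro z
    obtain ⟨a, ⟨t, ht⟩, rfl⟩ := IsLocalization.exists_mk'_eq (m.map (Ideal.Quotient.mk q0)).primeCompl z
    obtain ⟨a, rfl⟩ := Ideal.Quotient.mk_surjective a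
    obtain ⟨t, rfl⟩ := Ideal.Quotient.mk_surjective t
    exact ⟨IsLocalization.mk' L a (⟨t, fun h => ht (Ideal.mem_map_of_mem _ h)⟩ : m.primeCompl),
      Localization.localRingHom_mk' ..⟩
  refine IsRegularLocalRing.of_spanFinrank_maximalIdeal_le L ?_
  have hdim : (n : WithBot ℕ∞) ≤ ringKrullDim L := by
    refine le_trans ?_ (ringKrullDim_le_of_surjective φ hφ)
    rw [hN3]
    exact_mod_cast hnN
  refine le_trans ?_ hdim
  norm_cast
  have hgen : IsLocalRing.maximalIdeal L ≤ Ideal.span (Set.range fun i => algebraMap A L (x i)) ⊔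
      IsLocalRing.maximalIdeal L • IsLocalRing.maximalIdeal L := by
    rw [← Localization.AtPrime.map_eq_maximalIdeal (I := m), smul_eq_mul, ← Ideal.map_mul, ← pow_two]
    refine (Ideal.map_mono hxgen).trans (le_of_eq ?_)
    rw [Ideal.map_sup, Ideal.map_span, ← Set.range_comp]
    rfl
  have hspan : IsLocalRing.maximalIdeal L = Ideal.span (Set.range fun i => algebraMap A L (x i)) := by
    refine le_antisymm ?_ (Ideal.span_le.mpr ?_)
    · exact Submodule.le_of_le_smul_of_le_jacobson_bot (IsNoetherian.noetherian _)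
        (IsLocalRing.maximalIdeal_le_jacobson _) hgen
    · rintro _ ⟨i, rfl⟩
      exact (IsLocalization.AtPrime.to_map_mem_maximal_iff L m _).mpr (hxm i)
  rw [hspan]
  refine (Submodule.spanFinrank_span_le_ncard_of_finite (Set.finite_range _)).trans ?_
  rw [← Nat.card_coe_set_eq]
  exact (Finite.card_range_le _).trans (by simp)

end Groth.Agent.JetLib
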