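import Groth.Agent.CliffCurveLib.Sections
import Groth.Agent.InfNbhdLib.Scheme
import Groth.Agent.DCohLib.ClosedPush
import Groth.Agent.AmpleLib.Tensor
import Groth.Prelude.Def_W4c2seshadriposJets

/-!
# Separation of jets, on stalks
-/

set_option autoImplicit false
set_option backward.isDefEq.respectTransparency false
set_option backward.isDefEq.respectTransparency.types false
set_option linter.style.haveILetI false

universe u

open CategoryTheory CategoryTheory.Limits AlgebraicGeometry TopologicalSpace Opposite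
open Groth.Agent.PullbackMod Groth.Agent.DCohLib
open scoped TensorProduct

noncomputable section

namespace Groth.Agent.JetLib

variable {X Y : Scheme.{u}}

section

variable (i : X ⟶ Y) [IsClosedImmersion i]

theorem surjective_pullStalk (T : Y.Modules) (x : X) : Function.Surjective (pullStalk i T x) := by
  letI := (i.stalkMap x).hom.toAlgebra
  intro z
  obtain ⟨c, rfl⟩ := (pullStalkEquiv i x T).surjective z
  induction c using TensorProduct.induction_on with
  | zero => exact ⟨0, (map_zero _).trans (map_zero _).symm⟩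
  | tmul b t =>
    obtain ⟨a, rfl⟩ := i.stalkMap_surjective x b
    exact ⟨a • t, (pullStalk_smul i T x a t).trans (pullStalkEquiv_tmul i x T _ t).symm⟩
  | add p q hp hq =>
    obtain ⟨⟨v, hv⟩, w, hw⟩ := And.intro hp hq
    exact ⟨v + w, by rw [map_add, map_add, hv, hw]⟩

theorem pullStalk_eq_zero_iff (T : Y.Modules) (x : X) (t : T.presheaf.stalk (i x)) :
    pullStalk i T x t = 0 ↔
      t ∈ RingHom.ker (i.stalkMap x).hom • (⊤ : Submodule (Y.presheaf.stalk (i x)) (T.presheaf.stalk (i x))) := by
  letI := (i.stalkMap x).hom.toAlgebra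
  constructor
  · intro ht
    let A := Y.presheaf.stalk (i x)
    let B := X.presheaf.stalk x
    let T' := T.presheaf.stalk (i x)
    have hsurj : Function.Surjective (Algebra.linearMap A B) := i.stalkMap_surjective x
    have h1 : (1 : B) ⊗ₜ[A] t = 0 := (pullStalkEquiv i x T).injective (by
      rw [map_zero]
      exact ((pullStalkEquiv_tmul i x T 1 t).trans (one_smul _ _)).trans ht)
    have hex := rTensor_exact T' (LinearMap.exact_subtype_ker_map (Algebra.linearMap A B)) hsurj
    obtain ⟨n, hn⟩ := (hex ((1 : A) ⊗ₜ[A] t)).1 (by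
      rw [LinearMap.rTensor_tmul]
      show algebraMap A B 1 ⊗ₜ[A] t = 0
      rw [map_one]
      exact h1)
    have h0 : ∀ n, TensorProduct.lid A T'
        ((LinearMap.ker (Algebra.linearMap A B)).subtype.rTensor T' n) ∈
          RingHom.ker (i.stalkMap x).hom • (⊤ : Submodule A T') := fun n => by
      induction n using TensorProduct.induction_on with
      | zero => rw [map_zero, map_zero]; exact Submodule.zero_mem _
      | tmul a t =>
        rw [LinearMap.rTensor_tmul, TensorProduct.lid_tmul]
        exact Submodule.smul_mem_smul (RingHom.mem_ker.2 a.2) trivial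
      | add p q hp hq => rw [map_add, map_add]; exact Submodule.add_mem _ hp hq
    have h2 := h0 n
    rwa [hn, TensorProduct.lid_tmul, one_smul] at h2
  · intro h
    refine Submodule.smul_induction_on h (fun a ha s _ => ?_) fun p q hp hq => ?_
    · rw [pullStalk_smul, show i.stalkMap x a = 0 from ha, zero_smul]
    · rw [map_add, hp, hq, add_zero]

theorem unit_stalk_eq_zero_iff (T : Y.Modules) (x : X) (t : T.presheaf.stalk (i x)) :
    stalkLin ((Scheme.Modules.pullbackPushforwardAdjunction i).unit.app T) (i x) t = 0 ↔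
      t ∈ RingHom.ker (i.stalkMap x).hom • (⊤ : Submodule (Y.presheaf.stalk (i x)) (T.presheaf.stalk (i x))) := by
  rw [← pullStalk_eq_zero_iff, ← unit_stalk_pushStalk]
  exact ((map_eq_zero_iff _ (bijective_pushStalk i ((Scheme.Modules.pullback i).obj T) x).1)).symm

theorem surjective_unit_stalk (T : Y.Modules) (x : X) :
    Function.Surjective (stalkLin ((Scheme.Modules.pullbackPushforwardAdjunction i).unit.app T) (i x)) := by
  intro z
  obtain ⟨t, ht⟩ := surjective_pullStalk i T x (pushStalk i _ x z)
  exact ⟨t, (bijective_pushStalk i _ x).1 ((unit_stalk_pushStalk i T x t).trans ht)⟩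



end

/-- Degree-zero cohomology is global sections, naturally. -/
theorem surjective_hmap_zero_iff {M N : X.Modules} (f : M ⟶ N) :
    Function.Surjective (Sheaf.H.map ((SheafOfModules.toSheaf X.ringCatSheaf).map f) 0) ↔
      Function.Surjective (f.app (⊤ : X.Opens)) := by
  have hnat : ∀ c : Coh.HH X M 0,
      CurveLib.secOf N (Sheaf.H.map ((SheafOfModules.toSheaf X.ringCatSheaf).map f) 0 c) =
        f.app ⊤ (CurveLib.secOf M c) := fun c => by
    show CohBase.H0Equiv (⊤ : X.Opens) (Coh.toAb N) (CohBase.HEquiv _ 0 (Sheaf.H.map _ 0 c)) = _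
    rw [CohBase.HEquiv_map, CohBase.H0Equiv_hmap]
    rfl
  constructor
  · intro h n
    obtain ⟨c, hc⟩ := h ((CurveLib.secOf N).symm n)
    exact ⟨CurveLib.secOf M c, by rw [← hnat, hc, AddEquiv.apply_symm_apply]⟩
  · intro h c
    obtain ⟨s, hs⟩ := h (CurveLib.secOf N c)
    exact ⟨(CurveLib.secOf M).symm s,
      (CurveLib.secOf N).injective (by rw [hnat, AddEquiv.apply_symm_apply, hs])⟩

variable {x : X} (hx : IsClosed ({x} : Set X))

theorem stalkIdeal_pointPow (l : ℕ) :
    IntMult.stalkIdeal ((W4c2seshadripos.pointIdeal x hx) ^ (l + 1)) x =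
      IsLocalRing.maximalIdeal (X.presheaf.stalk x) ^ (l + 1) := by
  rw [InfNbhdLib.stalkIdeal_pow]
  exact congrArg (· ^ (l + 1)) (CliffCurveLib.stalkIdeal_point hx).1

/-- Jets are separated exactly if every germ is, modulo `𝔪 ^ (l + 1)`, the germ of a global section. -/
theorem separatesJets_iff (F : X.Modules) (l : ℕ) :
    W4c2seshadripos.SeparatesJets F x hx l ↔
      ∀ a : F.presheaf.stalk x, ∃ σ : Γ(F, (⊤ : X.Opens)),
        F.presheaf.germ ⊤ x trivial σ - a ∈ IsLocalRing.maximalIdeal (X.presheaf.stalk x) ^ (l + 1) •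
          (⊤ : Submodule (X.presheaf.stalk x) (F.presheaf.stalk x)) := by
  let J := (W4c2seshadripos.pointIdeal x hx) ^ (l + 1)
  let j := J.subschemeι
  let N := (Scheme.Modules.pushforward j).obj ((Scheme.Modules.pullback j).obj F)
  let η : F ⟶ N := (Scheme.Modules.pullbackPushforwardAdjunction j).unit.app F
  have hrange : Set.range j = {x} := by
    rw [Scheme.IdealSheafData.range_subschemeι, Scheme.IdealSheafData.support_pow_succ,
      W4c2seshadripos.pointIdeal, Scheme.IdealSheafData.coe_support_vanishingIdeal]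
    rfl
  have key : ∀ y : X, y ∈ Set.range j → Function.Surjective (stalkLin η y) ∧
      ∀ t : F.presheaf.stalk y, stalkLin η y t = 0 ↔
        t ∈ IntMult.stalkIdeal J y • (⊤ : Submodule (X.presheaf.stalk y) (F.presheaf.stalk y)) := by
    rintro y ⟨z, rfl⟩
    refine ⟨surjective_unit_stalk j F z, fun t => ?_⟩
    rw [← IdealStalkLib.ker_stalkMap_subschemeι]
    exact unit_stalk_eq_zero_iff j F z t
  obtain ⟨hsurj, hker⟩ := key x (by rw [hrange]; rfl)
  rw [stalkIdeal_pointPow hx l] at hker
  have hzero : ∀ y, y ≠ x → Subsingleton (N.presheaf.stalk y) := fun y hy =>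
    subsingleton_stalk_pushforward j _ y (by rw [hrange]; exact hy)
  have hext : ∀ n : Γ(N, (⊤ : X.Opens)), ∀ n', N.presheaf.germ ⊤ x trivial n = N.presheaf.germ ⊤ x trivial n' →
      n = n' := by
    intro n n' h
    refine TopCat.Presheaf.section_ext (⟨N.presheaf, N.isSheaf⟩ : TopCat.Sheaf Ab X) ⊤ n n' fun y _ => ?_
    rcases eq_or_ne y x with rfl | hy
    · exact h
    · exact (hzero y hy).elim _ _
  have hglob : ∀ w : N.presheaf.stalk x, ∃ n : Γ(N, (⊤ : X.Opens)), N.presheaf.germ ⊤ x trivial n = w := by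
    intro w
    obtain ⟨U, hU, s, rfl⟩ := TopCat.Presheaf.exists_germ_eq N.presheaf w
    let W : X.Opens := ⟨{x}ᶜ, hx.isOpen_compl⟩
    obtain ⟨n, hn, -⟩ := TopCat.Sheaf.existsUnique_gluing' (⟨N.presheaf, N.isSheaf⟩ : TopCat.Sheaf Ab X)
      (fun b : Bool => if b then U else W) (⊤ : X.Opens) (fun b => homOfLE le_top)
      (fun y _ => Opens.mem_iSup.2 (by
        rcases eq_or_ne y x with rfl | hy
        · exact ⟨true, hU⟩
        · exact ⟨false, hy⟩))
      (fun b => match b with | true => s | false => 0) (by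
        intro b b'
        refine TopCat.Presheaf.section_ext (⟨N.presheaf, N.isSheaf⟩ : TopCat.Sheaf Ab X) _ _ _ fun y hy => ?_
        rcases b with _ | _ <;> rcases b' with _ | _
        · rfl
        · exact (hzero y hy.1).elim _ _
        · exact (hzero y hy.2).elim _ _
        · rfl)
    refine ⟨n, ?_⟩
    exact (TopCat.Presheaf.germ_res_apply N.presheaf (homOfLE le_top) x hU n).symm.trans
      (congrArg (N.presheaf.germ U x hU) (hn true))
  refine (surjective_hmap_zero_iff η).trans ⟨fun h a => ?_, fun h n => ?_⟩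
  · obtain ⟨n, hn⟩ := hglob (stalkLin η x a)
    obtain ⟨σ, hσ⟩ := h n
    refine ⟨σ, (hker _).1 ?_⟩
    rw [map_sub]
    exact sub_eq_zero.2 ((stalkLin_germ η (U := ⊤) x trivial σ).trans
      ((congrArg (N.presheaf.germ ⊤ x trivial) hσ).trans hn))
  · obtain ⟨a, ha⟩ := hsurj (N.presheaf.germ ⊤ x trivial n)
    obtain ⟨σ, hσ⟩ := h a
    refine ⟨σ, hext _ _ ?_⟩
    have h0 := (hker _).2 hσ
    rw [map_sub, sub_eq_zero] at h0
    exact (stalkLin_germ η (U := ⊤) x trivial σ).symm.trans (h0.trans ha)

end Groth.Agent.JetLib
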